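import Mathlib.RingTheory.Polynomial.Basic
import Mathlib.RingTheory.FiniteType
import Mathlib.RingTheory.Finiteness.Cardinality
import Mathlib.LinearAlgebra.LinearIndependent.Lemmas
import Mathlib.LinearAlgebra.Finsupp.LinearCombination
import Mathlib.LinearAlgebra.FreeModule.Basic
import Mathlib.Algebra.MvPolynomial.Equiv

/-!
# Generic freeness, in element form

`GFree R f M` says that `M` becomes free after inverting `f`, witnessed by an injective map from a
free module whose image contains an `f`-power multiple of every element.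
-/

universe u v w

namespace Groth.Agent.GenFree

/-- `M` contains a free submodule with `f`-power torsion quotient. -/
def GFree (R : Type u) [CommRing R] (f : R) (M : Type v) [AddCommGroup M] [Module R M] : Prop :=
  ∃ (ι : Type v) (φ : (ι →₀ R) →ₗ[R] M),
    Function.Injective φ ∧ ∀ m : M, ∃ k : ℕ, f ^ k • m ∈ LinearMap.range φ

variable {R : Type u} [CommRing R] {M : Type v} [AddCommGroup M] [Module R M]

lemma GFree.of_dvd {f f' : R} (h : GFree R f M) (hd : f ∣ f') : GFree R f' M := by
  obtain ⟨ι, φ, hφ, hr⟩ := h
  obtain ⟨c, rfl⟩ := hd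
  refine ⟨ι, φ, hφ, fun m => ?_⟩
  obtain ⟨k, hk⟩ := hr m
  refine ⟨k, ?_⟩
  rw [mul_pow, mul_comm, mul_smul]
  exact Submodule.smul_mem _ _ hk

/-- Finite modules over a domain. -/
lemma exists_gfree_of_finite [IsDomain R] [Module.Finite R M] : ∃ f : R, f ≠ 0 ∧ GFree R f M := by
  classical
  obtain ⟨s, hs⟩ := Module.Finite.fg_top (R := R) (M := M)
  obtain ⟨t, ht, hmax⟩ := exists_maximal_linearIndepOn R (fun m : (s : Set M) => (m : M))
  choose! a ha hspan using hmax
  let f : R := ∏ i ∈ (Finset.univ : Finset (s : Set M)).filter (· ∉ t), a i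
  have hf : f ≠ 0 := Finset.prod_ne_zero_iff.2 fun i hi => ha i (Finset.mem_filter.1 hi).2
  refine ⟨f, hf, t, Finsupp.linearCombination R (fun m : t => ((m : (s : Set M)) : M)), ht, fun m => ⟨1, ?_⟩⟩
  rw [Finsupp.range_linearCombination, pow_one]
  have : (⊤ : Submodule R M) ≤ (Submodule.span R (Set.range fun m : t => ((m : (s : Set M)) : M))).comap
      (f • LinearMap.id) := by
    rw [← hs, Submodule.span_le]
    intro x hx
    show f • x ∈ Submodule.span R (Set.range fun m : t => ((m : (s : Set M)) : M))
    by_cases hxt : (⟨x, hx⟩ : (s : Set M)) ∈ t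
    · exact Submodule.smul_mem _ _ (Submodule.subset_span ⟨⟨⟨x, hx⟩, hxt⟩, rfl⟩)
    · have hd : a ⟨x, hx⟩ ∣ f := Finset.dvd_prod_of_mem a
        (Finset.mem_filter.2 ⟨Finset.mem_univ _, hxt⟩)
      obtain ⟨c, hc⟩ := hd
      rw [hc, mul_comm, mul_smul]
      refine Submodule.smul_mem _ _ ?_
      have h := hspan _ hxt
      rwa [Set.image_eq_range] at h
  exact this (Submodule.mem_top (x := m))

/-- Gluing along a filtration whose layers are images of a stabilising sequence of quotients. -/
lemma gfree_of_filtration {f : R} {M0 : Type w} [AddCommGroup M0] [Module R M0]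
    (F : ℕ → Submodule R M) (h0 : F 0 = ⊥) (hF : ∀ d, F d ≤ F (d + 1))
    (htop : ∀ m, ∃ d, m ∈ F d) (e : ℕ → M0 →ₗ[R] M) (he : ∀ d, F (d + 1) = F d ⊔ LinearMap.range (e d))
    (K : ℕ → Submodule R M0) (hK : ∀ d x, x ∈ K d ↔ e d x ∈ F d)
    (hgf : ∀ d, GFree R f (M0 ⧸ K d)) :
    ∃ (ι : Type w) (φ : (ι →₀ R) →ₗ[R] M),
      Function.Injective φ ∧ ∀ m : M, ∃ k : ℕ, f ^ k • m ∈ LinearMap.range φ := by
  classical
  choose ι φ hφ hr using hgf
  have hmono : Monotone F := monotone_nat_of_le_succ hF
  let l : ∀ d, ι d → M0 := fun d i => Function.surjInv (K d).mkQ_surjective (φ d (Finsupp.single i 1))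
  have hl : ∀ d i, (K d).mkQ (l d i) = φ d (Finsupp.single i 1) :=
    fun d i => Function.surjInv_eq (K d).mkQ_surjective _
  let L : ∀ d, (ι d →₀ R) →ₗ[R] M0 := fun d => Finsupp.linearCombination R (l d)
  have hL : ∀ d c, (K d).mkQ (L d c) = φ d c := by
    intro d
    exact LinearMap.congr_fun (f := (K d).mkQ ∘ₗ L d) (g := φ d)
      (Finsupp.lhom_ext' fun i => LinearMap.ext_ring (by simpa [L] using hl d i))
  let v : (Σ d, ι d) → M := fun p => e p.1 (l p.1 p.2)
  have hsplit : ∀ (d : ℕ) (c : ι d →₀ R), Finsupp.linearCombination R v (Finsupp.mapDomain (Sigma.mk d) c) = e d (L d c) := by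
    intro d c
    rw [Finsupp.linearCombination_mapDomain, Finsupp.linearCombination_apply, Finsupp.linearCombination_apply,
      map_finsuppSum]
    simp [v]
  refine ⟨Σ d, ι d, Finsupp.linearCombination R v, ?_, ?_⟩
  · refine (injective_iff_map_eq_zero _).2 fun c hc => ?_
    have key : ∀ n, ∀ c : (Σ d, ι d) →₀ R, (∀ p ∈ c.support, p.1 < n) →
        Finsupp.linearCombination R v c = 0 → c = 0 := by
      intro n
      induction n with
      | zero =>
        intro c hc _
        rw [← Finsupp.support_eq_empty, Finset.eq_empty_iff_forall_notMem]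
        exact fun p hp => by simpa using hc p hp
      | succ n ih =>
        intro c hsupp hc
        let cn : ι n →₀ R := c.split n
        let rest : (Σ d, ι d) →₀ R := c.filter fun p => p.1 ≠ n
        have hcn : Finsupp.mapDomain (Sigma.mk n) cn = c.filter fun p => p.1 = n := by
          ext ⟨d, i⟩
          by_cases hd : d = n
          · subst hd
            rw [Finsupp.mapDomain_apply sigma_mk_injective,
              Finsupp.filter_apply_pos (fun p : Σ d, ι d => p.1 = d) c rfl]
            exact Finsupp.split_apply c d i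
          · rw [Finsupp.mapDomain_of_notMem_range, Finsupp.filter_apply_neg _ _ (by simpa using hd)]
            rintro ⟨j, hj⟩
            exact hd (congrArg Sigma.fst hj).symm
        have hsum : Finsupp.mapDomain (Sigma.mk n) cn + rest = c := by
          rw [hcn]; exact Finsupp.filter_add_filter_not _ _
        have hrest : ∀ p ∈ rest.support, p.1 < n := by
          intro p hp
          rw [Finsupp.support_filter, Finset.mem_filter] at hp
          have := hsupp p hp.1
          have := hp.2
          omega
        have hmem : Finsupp.linearCombination R v rest ∈ F n := by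
          rw [Finsupp.linearCombination_apply]
          refine Submodule.sum_mem _ fun p hp => Submodule.smul_mem _ _ (hmono (hrest p hp) ?_)
          rw [he p.1]
          exact Submodule.mem_sup_right ⟨_, rfl⟩
        have hc' : e n (L n cn) + Finsupp.linearCombination R v rest = 0 := by
          rw [← hsplit, ← map_add, hsum, hc]
        have hz : cn = 0 := hφ n (by
          rw [map_zero, ← hL, Submodule.mkQ_apply, Submodule.Quotient.mk_eq_zero, hK,
            eq_neg_of_add_eq_zero_left hc']
          exact neg_mem hmem)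
        rw [hz, Finsupp.mapDomain_zero, zero_add] at hsum
        exact ih c (hsum ▸ hrest) hc
    exact key (c.support.sup (fun p => p.1) + 1) c
      (fun p hp => Nat.lt_succ_of_le (Finset.le_sup (f := fun p => p.1) hp)) hc
  · have key : ∀ d, ∀ m ∈ F d, ∃ k, f ^ k • m ∈ LinearMap.range (Finsupp.linearCombination R v) := by
      intro d
      induction d with
      | zero => intro m hm; rw [h0, Submodule.mem_bot] at hm; exact ⟨0, by simp [hm]⟩
      | succ d ih =>
        intro m hm
        rw [he d, Submodule.mem_sup] at hm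
        obtain ⟨y, hy, _, ⟨x, rfl⟩, rfl⟩ := hm
        obtain ⟨k, c, hc⟩ := hr d ((K d).mkQ x)
        rw [← map_smul, ← hL, Submodule.mkQ_apply, Submodule.mkQ_apply, Submodule.Quotient.eq,
          hK, map_sub, map_smul] at hc
        obtain ⟨k', hk'⟩ := ih (f ^ k • y - (e d (L d c) - f ^ k • e d x))
          (sub_mem (Submodule.smul_mem _ _ hy) hc)
        refine ⟨k' + k, ?_⟩
        have : f ^ (k' + k) • (y + e d x) = f ^ k' • (f ^ k • y - (e d (L d c) - f ^ k • e d x)) +
            f ^ k' • e d (L d c) := by
          rw [pow_add, mul_smul, ← smul_add]; congr 1; rw [smul_add]; abel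
        rw [this]
        exact add_mem hk' (Submodule.smul_mem _ _ ⟨_, hsplit d c⟩)
    intro m
    obtain ⟨d, hd⟩ := htop m
    exact key d m hd

/-- The inductive step: one more variable, acting as `x`. -/
lemma exists_gfree_step {S : Type w} [CommRing S] [IsDomain R] [IsNoetherianRing S] [Algebra R S]
    [Module S M] [IsScalarTower R S M] (x : M →ₗ[S] M) (M0 : Submodule S M) (hM0 : M0.FG)
    (htop : ⨆ i, M0.map (x ^ i) = ⊤)
    (hS : ∀ (N : Type v) [AddCommGroup N] [Module S N] [Module R N] [IsScalarTower R S N]
      [Module.Finite S N], ∃ f : R, f ≠ 0 ∧ GFree R f N) :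
    ∃ f : R, f ≠ 0 ∧ GFree R f M := by
  classical
  have : Module.Finite S M0 := Module.Finite.iff_fg.2 hM0
  let F : ℕ → Submodule S M := fun d => ⨆ i ∈ Finset.range d, M0.map (x ^ i)
  let e : ℕ → M0 →ₗ[S] M := fun d => (x ^ d) ∘ₗ M0.subtype
  let K : ℕ → Submodule S M0 := fun d => (F d).comap (e d)
  have hxF : ∀ d, (F d).map x ≤ F (d + 1) := by
    intro d
    simp only [F, Submodule.map_iSup]
    refine iSup₂_le fun i hi => ?_
    rw [← Submodule.map_comp]
    exact le_iSup₂_of_le (i + 1) (by simpa using hi) (le_of_eq (by rw [pow_succ']; rfl))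
  have hKmono : Monotone K := monotone_nat_of_le_succ fun d y hy => by
    have := hxF d (Submodule.mem_map_of_mem hy)
    simpa [K, e, pow_succ'] using this
  obtain ⟨D, hD⟩ := monotone_stabilizes_iff_noetherian.2 (inferInstance : IsNoetherian S M0) ⟨K, hKmono⟩
  choose g hg0 hg using fun d => hS (M0 ⧸ K d)
  let f : R := ∏ d ∈ Finset.range (D + 1), g d
  refine ⟨f, Finset.prod_ne_zero_iff.2 fun d _ => hg0 d, ?_⟩
  have hall : ∀ d, GFree R f (M0 ⧸ (K d).restrictScalars R) := fun d => by
    have hd : ∀ d ≤ D, GFree R f (M0 ⧸ K d) := fun d hd =>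
      (hg d).of_dvd (Finset.dvd_prod_of_mem g (by simpa using Nat.lt_succ_of_le hd))
    rcases le_or_gt d D with h | h
    · exact hd d h
    · have hK : K D = K d := hD d h.le
      exact hK ▸ hd D le_rfl
  refine gfree_of_filtration (fun d => (F d).restrictScalars R) ?_ ?_ ?_
    (fun d => (e d).restrictScalars R) ?_ (fun d => (K d).restrictScalars R) (fun _ _ => Iff.rfl) hall
  · simp [F]
  · intro d
    exact (biSup_mono fun i hi => Finset.mem_range.2 (Nat.lt_succ_of_lt (Finset.mem_range.1 hi)) : F d ≤ F (d + 1))
  · intro m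
    have hm : m ∈ ⨆ i, M0.map (x ^ i) := htop ▸ Submodule.mem_top
    obtain ⟨t, ht⟩ := Submodule.mem_iSup_iff_exists_finset.1 hm
    refine ⟨t.sup id + 1, ?_⟩
    exact (show (⨆ i ∈ t, M0.map (x ^ i)) ≤ F (t.sup id + 1) from biSup_mono fun i hi => by
      simp only [Finset.mem_range]; exact Nat.lt_succ_of_le (Finset.le_sup (f := id) hi)) ht
  · intro d
    have : F (d + 1) = F d ⊔ LinearMap.range (e d) := by
      simp only [F, e, LinearMap.range_comp, Submodule.range_subtype]
      rw [Finset.range_add_one, Finset.iSup_insert, sup_comm]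
    show (F (d + 1)).restrictScalars R = _
    rw [this, Submodule.restrictScalars_sup, LinearMap.range_restrictScalars]

/-- Generic freeness for polynomial rings in finitely many variables. -/
theorem exists_gfree_mvPolynomial [IsDomain R] [IsNoetherianRing R] (n : ℕ) :
    ∀ (N : Type v) [AddCommGroup N] [Module (MvPolynomial (Fin n) R) N] [Module R N]
      [IsScalarTower R (MvPolynomial (Fin n) R) N] [Module.Finite (MvPolynomial (Fin n) R) N],
      ∃ f : R, f ≠ 0 ∧ GFree R f N := by
  induction n with
  | zero =>
    intro N _ _ _ _ _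
    have : Module.Finite R (MvPolynomial (Fin 0) R) :=
      Module.Finite.equiv (MvPolynomial.isEmptyAlgEquiv R (Fin 0)).toLinearEquiv.symm
    have : Module.Finite R N := Module.Finite.trans (MvPolynomial (Fin 0) R) N
    exact exists_gfree_of_finite
  | succ n ih =>
    intro N _ _ _ _ _
    let ρ : MvPolynomial (Fin n) R →ₐ[R] MvPolynomial (Fin (n + 1)) R := MvPolynomial.rename Fin.succ
    let := ρ.toRingHom.toAlgebra
    let := Module.compHom N ρ.toRingHom
    have : IsScalarTower R (MvPolynomial (Fin n) R) N := ⟨fun r p m => by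
      show ρ (r • p) • m = r • ρ p • m
      rw [map_smul, smul_assoc]⟩
    let x : N →ₗ[MvPolynomial (Fin n) R] N :=
      { toFun := fun m => (MvPolynomial.X 0 : MvPolynomial (Fin (n + 1)) R) • m
        map_add' := smul_add _
        map_smul' := fun p m => smul_comm _ (ρ p) m }
    obtain ⟨s, hs⟩ := Module.Finite.fg_top (R := MvPolynomial (Fin (n + 1)) R) (M := N)
    let M0 : Submodule (MvPolynomial (Fin n) R) N := Submodule.span _ (s : Set N)
    refine exists_gfree_step x M0 ⟨s, rfl⟩ ?_ ih
    set T := ⨆ i, M0.map (x ^ i)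
    have hx : ∀ m ∈ T, x m ∈ T := by
      intro m hm
      refine (show T.map x ≤ T from ?_) (Submodule.mem_map_of_mem hm)
      rw [Submodule.map_iSup]
      refine iSup_le fun i => ?_
      rw [← Submodule.map_comp]
      exact le_iSup_of_le (i + 1) (le_of_eq (by rw [pow_succ']; rfl))
    have hmul : ∀ (p : MvPolynomial (Fin (n + 1)) R), ∀ m ∈ T, p • m ∈ T := by
      intro p
      induction p using MvPolynomial.induction_on with
      | C r =>
        intro m hm
        have : (MvPolynomial.C r : MvPolynomial (Fin (n + 1)) R) • m =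
            (MvPolynomial.C r : MvPolynomial (Fin n) R) • m :=
          congrArg (· • m) (MvPolynomial.rename_C _ r).symm
        exact this ▸ Submodule.smul_mem _ _ hm
      | add p q hp hq => intro m hm; rw [add_smul]; exact add_mem (hp m hm) (hq m hm)
      | mul_X p i hp =>
        intro m hm
        rw [mul_smul]
        refine hp _ ?_
        induction i using Fin.cases with
        | zero => exact hx m hm
        | succ i =>
          have : (MvPolynomial.X i.succ : MvPolynomial (Fin (n + 1)) R) • m =
              (MvPolynomial.X i : MvPolynomial (Fin n) R) • m :=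
            congrArg (· • m) (MvPolynomial.rename_X _ i).symm
          exact this ▸ Submodule.smul_mem _ _ hm
    let T' : Submodule (MvPolynomial (Fin (n + 1)) R) N :=
      { T.toAddSubmonoid with smul_mem' := hmul }
    rw [eq_top_iff]
    intro m _
    exact (show (⊤ : Submodule (MvPolynomial (Fin (n + 1)) R) N) ≤ T' from hs ▸ Submodule.span_le.2
      fun y hy => le_iSup (fun i => M0.map (x ^ i)) 0 ⟨y, Submodule.subset_span hy, rfl⟩)
      (Submodule.mem_top (x := m))

/-- Generic freeness. -/
theorem exists_gfree [IsDomain R] [IsNoetherianRing R] (S : Type w) [CommRing S] [Algebra R S]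
    [Algebra.FiniteType R S] [Module S M] [IsScalarTower R S M] [Module.Finite S M] :
    ∃ f : R, f ≠ 0 ∧ GFree R f M := by
  obtain ⟨n, φ, hφ⟩ := Algebra.FiniteType.iff_quotient_mvPolynomial''.1 (‹Algebra.FiniteType R S›)
  let := φ.toRingHom.toAlgebra
  let := Module.compHom M φ.toRingHom
  have : IsScalarTower R (MvPolynomial (Fin n) R) M := ⟨fun r p m => by
    show φ (r • p) • m = r • φ p • m
    rw [map_smul, smul_assoc]⟩
  have : IsScalarTower (MvPolynomial (Fin n) R) S M := ⟨fun p s m => mul_smul (φ p) s m⟩
  have : Module.Finite (MvPolynomial (Fin n) R) S :=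
    Module.Finite.of_surjective (Algebra.linearMap (MvPolynomial (Fin n) R) S) hφ
  have : Module.Finite (MvPolynomial (Fin n) R) M := Module.Finite.trans S M
  exact exists_gfree_mvPolynomial n M

end Groth.Agent.GenFree
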